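import Groth.Agent.Comod33.PrimGen
import Groth.Agent.Comod33.CartierReduced
import Groth.Prelude.Def_LieHopf
import Mathlib.RingTheory.Filtration

/-!
In characteristic zero the Lie algebra of a unipotent group separates.
-/

universe u v w

open TensorProduct

noncomputable section

namespace Groth.Agent.Unip34

open Groth.Agent.Comod33

section Prim

variable {k : Type u} [Field k] [CharZero k] {A : Type v} [CommRing A] [HopfAlgebra k A]

/-- a primitive element in the square of the augmentation ideal lies in all its powers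
(the induction of `Comod33.eq_zero_of_mem_sq`) -/
theorem mem_pow_of_mem_sq {p : A}
    (hp : Diag.IsPrim (k := k) p) (h2 : p ∈ RingHom.ker (Bialgebra.counitAlgHom k A) ^ 2) :
    ∀ j, p ∈ RingHom.ker (Bialgebra.counitAlgHom k A) ^ j := by
  classical
  let m := RingHom.ker (Bialgebra.counitAlgHom k A)
  -- the doubling map
  let D : A →ₐ[k] A := (Algebra.TensorProduct.lmul' k).comp (Bialgebra.comulAlgHom k A)
  have hD1 : ∀ a ∈ m, D a - 2 * a ∈ m ^ 2 := by
    intro a ha
    have hφ : ∀ z : A ⊗[k] A, Algebra.TensorProduct.lmul' k z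
        - (TensorProduct.rid k A ((CoalgebraStruct.counit (R := k) (A := A)).lTensor A z))
        - (TensorProduct.lid k A ((CoalgebraStruct.counit (R := k) (A := A)).rTensor A z))
        + algebraMap k A (Algebra.TensorProduct.lmul' k
          (Algebra.TensorProduct.map (Bialgebra.counitAlgHom k A) (Bialgebra.counitAlgHom k A) z)) ∈ m ^ 2 := by
      intro z
      induction z with
      | zero => simp
      | add x y hx hy =>
        simp only [map_add]
        convert add_mem hx hy using 1
        abel
      | tmul x y =>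
        have e : (x - algebraMap k A (CoalgebraStruct.counit (R := k) x)) *
            (y - algebraMap k A (CoalgebraStruct.counit (R := k) y)) ∈ m ^ 2 := by
          rw [pow_two]
          refine Ideal.mul_mem_mul ?_ ?_ <;>
          · show Bialgebra.counitAlgHom k A _ = 0
            rw [map_sub, AlgHom.commutes]
            exact sub_self _
        convert e using 1
        simp only [LinearMap.lTensor_tmul, LinearMap.rTensor_tmul, TensorProduct.rid_tmul,
          TensorProduct.lid_tmul, Algebra.TensorProduct.lmul'_apply_tmul, Algebra.TensorProduct.map_tmul,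
          Bialgebra.counitAlgHom_apply, map_mul, Algebra.smul_def]
        ring
    have h3 := hφ (CoalgebraStruct.comul (R := k) a)
    rw [Coalgebra.lTensor_counit_comul, Coalgebra.rTensor_counit_comul, TensorProduct.rid_tmul,
      TensorProduct.lid_tmul, one_smul] at h3
    have h4 : Algebra.TensorProduct.lmul' k
        (Algebra.TensorProduct.map (Bialgebra.counitAlgHom k A) (Bialgebra.counitAlgHom k A)
          (CoalgebraStruct.comul (R := k) a)) = CoalgebraStruct.counit (R := k) a := by
      conv_rhs => rw [← one_smul k a, ← TensorProduct.lid_tmul a (1 : k),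
        ← Coalgebra.rTensor_counit_comul (R := k) a]
      generalize CoalgebraStruct.comul (R := k) a = z
      induction z with
      | zero => simp
      | tmul x y => simp
      | add x y hx hy => simp only [map_add, hx, hy]
    rw [h4, show CoalgebraStruct.counit (R := k) a = 0 from ha, map_zero, add_zero] at h3
    rw [two_mul]
    rw [sub_sub] at h3
    exact h3
  have hDm : ∀ a ∈ m, D a ∈ m := fun a ha => by
    have := add_mem (Ideal.pow_le_self two_ne_zero (hD1 a ha)) (m.mul_mem_left 2 ha)
    rwa [sub_add_cancel] at this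
  have hDj : ∀ j, ∀ a ∈ m ^ j, D a - (2 : A) ^ j * a ∈ m ^ (j + 1) := by
    intro j
    induction j with
    | zero =>
      intro a _
      rw [pow_zero, one_mul, zero_add, pow_one]
      show Bialgebra.counitAlgHom k A (D a - a) = 0
      have h5 : a - algebraMap k A (CoalgebraStruct.counit (R := k) a) ∈ m := by
        show Bialgebra.counitAlgHom k A _ = 0
        rw [map_sub, AlgHom.commutes]; exact sub_self _
      have h6 := hDm _ h5
      rw [map_sub, AlgHom.commutes] at h6
      have h7 : Bialgebra.counitAlgHom k A (D a - algebraMap k A (CoalgebraStruct.counit (R := k) a)) = 0 := h6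
      rw [map_sub, AlgHom.commutes, sub_eq_zero] at h7
      rw [map_sub, h7]
      exact sub_self _
    | succ j ih =>
      intro a ha
      rw [pow_succ] at ha
      induction ha using Submodule.mul_induction_on' with
      | mem_mul_mem x hx y hy =>
        have e : D (x * y) - 2 ^ (j + 1) * (x * y) =
            (D x - 2 ^ j * x) * D y + 2 ^ j * (x * (D y - 2 * y)) := by
          rw [map_mul]; ring
        rw [e]
        refine add_mem ?_ (Ideal.mul_mem_left _ _ ?_)
        · rw [pow_succ]; exact Ideal.mul_mem_mul (ih x hx) (hDm y hy)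
        · rw [show j + 1 + 1 = j + 2 by rfl, pow_add]
          exact Ideal.mul_mem_mul hx (hD1 y hy)
      | add x hx y hy hx' hy' =>
        convert add_mem hx' hy' using 1
        rw [map_add]; ring
  have hmem : ∀ j, p ∈ m ^ j := by
    intro j
    induction j with
    | zero => simp
    | succ j ih =>
      rcases Nat.lt_or_ge j 2 with hj | hj
      · exact Ideal.pow_le_pow_right (by omega) h2
      · have h5 := hDj j p ih
        have hDp : D p = 2 * p := by
          show Algebra.TensorProduct.lmul' k (CoalgebraStruct.comul (R := k) p) = _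
          rw [show CoalgebraStruct.comul (R := k) p = _ from hp, map_add]
          simp [two_mul]
        rw [hDp, show (2 : A) * p - 2 ^ j * p = algebraMap k A (2 - 2 ^ j) * p by
          rw [map_sub, map_pow, map_ofNat]; ring] at h5
        have hne : (2 : k) - 2 ^ j ≠ 0 := by
          rw [sub_ne_zero]
          intro e
          have e' : (2 : ℕ) = 2 ^ j := by exact_mod_cast e
          have := Nat.pow_le_pow_right (n := 2) (by norm_num) hj
          omega
        have h6 := Ideal.mul_mem_left _ (algebraMap k A (2 - 2 ^ j)⁻¹) h5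
        rwa [← mul_assoc, ← map_mul, inv_mul_cancel₀ hne, map_one, one_mul] at h6
  exact hmem

omit [CharZero k] in
theorem counit_prim {p : A} (hp : Diag.IsPrim (k := k) p) : Bialgebra.counitAlgHom k A p = 0 := by
  have h := congrArg (fun z => TensorProduct.rid k A ((CoalgebraStruct.counit (R := k) (A := A)).lTensor A z)) hp
  simp only [Coalgebra.lTensor_counit_comul, map_add, LinearMap.lTensor_tmul, TensorProduct.rid_tmul,
    Bialgebra.counit_one, one_smul, left_eq_add] at h
  have h2 := congrArg (Bialgebra.counitAlgHom k A) h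
  simpa using h2

omit [CharZero k] in
theorem transl_apply (g : A →ₐ[k] k) (a : A) :
    Aug.transl g a = rc g.toLinearMap (CoalgebraStruct.comul (R := k) a) := by
  rw [Aug.transl]
  show Algebra.TensorProduct.lmul' k
    (Algebra.TensorProduct.map (AlgHom.id k A) ((Algebra.ofId k A).comp g) (CoalgebraStruct.comul (R := k) a)) = _
  generalize CoalgebraStruct.comul (R := k) a = z
  induction z with
  | zero => simp
  | tmul p q => simp [Algebra.smul_def, mul_comm]
  | add p q hp hq => simp only [map_add, hp, hq]

variable [IsAlgClosed k] [Algebra.FiniteType k A]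

/-- in characteristic zero primitive elements do not lie in the square of the augmentation ideal -/
theorem eq_zero_of_prim_mem_sq {p : A}
    (hp : Diag.IsPrim (k := k) p) (h2 : p ∈ RingHom.ker (Bialgebra.counitAlgHom k A) ^ 2) : p = 0 := by
  classical
  let m := RingHom.ker (Bialgebra.counitAlgHom k A)
  haveI : IsNoetherianRing A := Algebra.FiniteType.isNoetherianRing k A
  have h7 : p ∈ (⨅ i : ℕ, m ^ i • ⊤ : Submodule A A) := by
    rw [Submodule.mem_iInf]
    intro i
    rw [smul_eq_mul, Ideal.mul_top]
    exact mem_pow_of_mem_sq hp h2 i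
  obtain ⟨⟨c, hc⟩, hcp⟩ := (Ideal.mem_iInf_smul_pow_eq_bot_iff m p).1 h7
  let u : A := 1 - c
  have hup : u * p = 0 := by
    show (1 - c) * p = 0
    rw [sub_mul, one_mul, sub_eq_zero]
    exact hcp.symm
  have hu : CoalgebraStruct.counit (R := k) u = 1 := by
    show Bialgebra.counitAlgHom k A (1 - c) = 1
    rw [map_sub, map_one, show Bialgebra.counitAlgHom k A c = 0 from hc, sub_zero]
  have htr : ∀ g : A →ₐ[k] k, Aug.transl g p = p + algebraMap k A (g p) := by
    intro g
    rw [transl_apply, show CoalgebraStruct.comul (R := k) p = _ from hp, map_add, rc_tmul, rc_tmul,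
      Algebra.algebraMap_eq_smul_one]
    simp
  have hmul : ∀ g : A →ₐ[k] k, Aug.transl g u * (p + algebraMap k A (g p)) = 0 := fun g => by
    rw [← htr, ← map_mul, hup, map_zero]
  let W : Set A := Set.range fun g : A →ₐ[k] k => Aug.transl g u
  have hW : Ideal.span W = ⊤ := by
    by_contra h
    obtain ⟨J, hJ, hle⟩ := Ideal.exists_le_maximal _ h
    obtain ⟨g₀, rfl⟩ := Aug.exists_point_ker (k := k) J
    let g : A →ₐ[k] k := ((WithConv.toConv g₀)⁻¹).ofConv
    have h1 : Aug.transl g u ∈ RingHom.ker g₀ := hle (Ideal.subset_span ⟨g, rfl⟩)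
    have h3 : Aug.transl g₀ (Aug.transl g u) = u := by
      rw [← AlgHom.comp_apply, Aug.transl_comp, WithConv.toConv_ofConv, mul_inv_cancel, Aug.transl_one]
      rfl
    have h4 : g₀ (Aug.transl g u) = 1 := by rw [← Aug.counit_transl g₀, h3, hu]
    rw [RingHom.mem_ker, h4] at h1
    exact one_ne_zero h1
  obtain ⟨T, hTW, hT⟩ := Submodule.mem_span_finite_of_mem_span (show (1 : A) ∈ Ideal.span W by rw [hW]; trivial)
  have hval : ∀ h : A →ₐ[k] k, ∃ t ∈ T, ∃ g : A →ₐ[k] k, Aug.transl g u = t ∧ h p = - g p := by
    intro h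
    have hne : ∃ t ∈ T, h t ≠ 0 := by
      by_contra hno
      push Not at hno
      have : (1 : A) ∈ RingHom.ker h :=
        (Submodule.span_le.2 (fun t ht => RingHom.mem_ker.2 (hno t ht)) :
          Submodule.span A (T : Set A) ≤ RingHom.ker h) hT
      rw [RingHom.mem_ker, map_one] at this
      exact one_ne_zero this
    obtain ⟨t, ht, hht⟩ := hne
    obtain ⟨g, hg⟩ := hTW ht
    refine ⟨t, ht, g, hg, ?_⟩
    have h8 := congrArg h (hmul g)
    simp only [map_mul, map_add, AlgHom.commutes, map_zero, mul_eq_zero] at h8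
    rw [show Aug.transl g u = t from hg] at h8
    exact eq_neg_of_add_eq_zero_left (h8.resolve_left hht)
  have hg0 : ∀ g : A →ₐ[k] k, g p = 0 := by
    intro g
    by_contra hg
    let f : ℕ → (A →ₐ[k] k) := fun n => n.rec (Bialgebra.counitAlgHom k A) fun _ h => h.comp (Aug.transl g)
    have hf : ∀ n, f n p = n • g p := by
      intro n
      induction n with
      | zero => simpa [f] using counit_prim hp
      | succ n ih =>
        show (f n).comp (Aug.transl g) p = _
        rw [AlgHom.comp_apply, htr, map_add, AlgHom.commutes, ih, succ_nsmul]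
        rfl
    choose t ht g' hg' hv using fun n => hval (f n)
    obtain ⟨a, b, hab, heq⟩ := Finite.exists_ne_map_eq_of_infinite (fun n => (⟨t n, ht n⟩ : T))
    have heq' : t a = t b := congrArg Subtype.val heq
    have h9 := hmul (g' a)
    have h10 := hmul (g' b)
    rw [hg' a] at h9
    rw [hg' b, ← heq'] at h10
    have h11 : t a * algebraMap k A (g' a p - g' b p) = 0 := by
      rw [map_sub]; linear_combination h9 - h10
    have h12 : g' a p = g' b p := by
      by_contra hne
      have h13 := congrArg (fun x => x * algebraMap k A (g' a p - g' b p)⁻¹) h11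
      simp only [zero_mul, mul_assoc, ← map_mul, mul_inv_cancel₀ (sub_ne_zero.2 hne), map_one, mul_one] at h13
      have h14 : CoalgebraStruct.counit (R := k) (Aug.transl ((WithConv.toConv (g' a))⁻¹).ofConv (t a)) = 1 := by
        rw [← hg' a, ← AlgHom.comp_apply, Aug.transl_comp, WithConv.toConv_ofConv, inv_mul_cancel, Aug.transl_one]
        exact hu
      rw [h13, map_zero, map_zero] at h14
      exact zero_ne_one h14
    have h15 : (a : k) * g p = (b : k) * g p := by
      rw [← nsmul_eq_mul, ← nsmul_eq_mul, ← hf a, ← hf b, hv a, hv b, h12]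
    exact hab (Nat.cast_injective (mul_right_cancel₀ hg h15))
  have hann : Ideal.span W ≤ (Submodule.span A {p}).annihilator := by
    rw [Ideal.span_le]
    rintro _ ⟨g, rfl⟩
    rw [SetLike.mem_coe, Submodule.mem_annihilator_span_singleton, smul_eq_mul]
    have := hmul g
    rwa [hg0, map_zero, add_zero] at this
  have h16 := (Submodule.mem_annihilator_span_singleton p (1 : A)).1 (hann (by rw [hW]; trivial))
  rwa [one_smul] at h16

end Prim

section Sep

variable {k : Type u} [Field k] [CharZero k] [IsAlgClosed k] {A : Type u} [CommRing A] [HopfAlgebra k A]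
  [Algebra.FiniteType k A]

/-- the Lie algebra separates primitive elements -/
theorem eq_zero_of_prim_of_lie {p : A} (hp : Diag.IsPrim (k := k) p)
    (h : ∀ D : LieHopf.Lie k A, LieHopf.dlin D p = 0) : p = 0 := by
  by_contra hne
  let m := RingHom.ker (Bialgebra.counitAlgHom k A)
  let U : Submodule k A := (m ^ 2).restrictScalars k ⊔ Submodule.span k {1}
  have hpU : p ∉ U := by
    intro hU
    obtain ⟨x, hx, y, hy, hxy⟩ := Submodule.mem_sup.1 hU
    obtain ⟨c, rfl⟩ := Submodule.mem_span_singleton.1 hy
    have hx0 : Bialgebra.counitAlgHom k A x = 0 := Ideal.pow_le_self two_ne_zero hx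
    have := congrArg (Bialgebra.counitAlgHom k A) hxy
    rw [map_add, hx0, map_smul, map_one, counit_prim hp, zero_add, smul_eq_mul, mul_one] at this
    rw [this, zero_smul, add_zero] at hxy
    exact hne (eq_zero_of_prim_mem_sq hp (hxy ▸ hx))
  obtain ⟨φ, hφp, hφU⟩ := Submodule.exists_dual_map_eq_bot_of_notMem hpU inferInstance
  have hφU' : ∀ x ∈ U, φ x = 0 := fun x hx => by
    have := Submodule.mem_map_of_mem (f := φ) hx
    rwa [hφU, Submodule.mem_bot] at this
  let l : A →ₗ[k] LieHopf.K k A := φ
  let D : LieHopf.Lie k A := Derivation.mk' l fun a b => by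
    rw [LieHopf.smul_def, LieHopf.smul_def]
    show φ (a * b) = Bialgebra.counitAlgHom k A a * φ b + Bialgebra.counitAlgHom k A b * φ a
    let ε := Bialgebra.counitAlgHom k A
    have he : (a - algebraMap k A (ε a)) * (b - algebraMap k A (ε b)) ∈ m ^ 2 := by
      rw [pow_two]
      exact Ideal.mul_mem_mul (by simp [m, ε, RingHom.mem_ker]) (by simp [m, ε, RingHom.mem_ker])
    have h1 := hφU' _ (Submodule.mem_sup_left he)
    have h2 : φ 1 = 0 := hφU' _ (Submodule.mem_sup_right (Submodule.mem_span_singleton_self _))
    have e : (a - algebraMap k A (ε a)) * (b - algebraMap k A (ε b)) =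
        a * b - ε a • b - ε b • a + (ε a * ε b) • (1 : A) := by
      simp only [Algebra.smul_def, map_mul]; ring
    rw [e, map_add, map_sub, map_sub, map_smul, map_smul, map_smul, h2, smul_eq_mul, smul_eq_mul, smul_zero,
      add_zero] at h1
    linear_combination h1
  exact hφp (h D)

section Comod

variable {V : Type w} [AddCommGroup V] [Module k V] [HopfRep.Comod k A V]

theorem dlin_dact_mem_soc (D : LieHopf.Lie k A) {i : ℕ} {v : V} (hv : v ∈ soc k A V (i + 1)) :
    dact (LieHopf.dlin D) v ∈ soc k A V i :=
  mem_soc_succ_iff.1 hv _ (LieHopf.dlin_one D)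

/-- a vector killed by the Lie algebra drops one step in the fixed point series -/
theorem mem_soc_of_lie {i : ℕ} {v : V} (hv : v ∈ soc k A V (i + 2))
    (h : ∀ D : LieHopf.Lie k A, dact (LieHopf.dlin D) v = 0) : v ∈ soc k A V (i + 1) := by
  rw [mem_soc_succ, mem_range_rTensor_iff]
  intro f
  set U := soc k A V i
  set z := HopfRep.Comod.coact (k := k) (A := A) v - v ⊗ₜ[k] (1 : A) with hz
  have hzU : z ∈ LinearMap.range ((soc k A V (i + 1)).subtype.rTensor A) := mem_soc_succ.1 hv
  rw [← Submodule.Quotient.mk_eq_zero U, ← Submodule.mkQ_apply]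
  rw [← Module.forall_dual_apply_eq_zero_iff k]
  intro ψ
  let φ : V →ₗ[k] k := ψ ∘ₗ U.mkQ
  let a : A := TensorProduct.lid k A (φ.rTensor A z)
  have hrc : ∀ (g : A →ₗ[k] k) (y : V ⊗[k] A), φ (rc g y) = g (TensorProduct.lid k A (φ.rTensor A y)) := by
    intro g y
    induction y with
    | zero => simp
    | tmul p q => simp [mul_comm]
    | add p q hp hq => simp only [map_add, hp, hq]
  show φ (rc f z) = 0
  rw [hrc]
  suffices ha : a = 0 by
    show f a = 0
    rw [ha, map_zero]
  have hw : ∀ w ∈ soc k A V (i + 1), TensorProduct.lid k A (φ.rTensor A (HopfRep.Comod.coact (k := k) (A := A) w)) =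
      φ w • (1 : A) := by
    intro w hw
    obtain ⟨y, hy⟩ := mem_soc_succ.1 hw
    rw [sub_eq_iff_eq_add.1 hy.symm, map_add, map_add, LinearMap.rTensor_tmul, TensorProduct.lid_tmul]
    suffices h0 : φ.rTensor A (U.subtype.rTensor A y) = 0 by
      show TensorProduct.lid k A (φ.rTensor A (U.subtype.rTensor A y)) + _ = _
      rw [h0, map_zero, zero_add]
    rw [← LinearMap.comp_apply (φ.rTensor A), ← LinearMap.rTensor_comp]
    have : φ ∘ₗ U.subtype = 0 := LinearMap.ext fun x => by
      show ψ (U.mkQ x) = 0
      rw [Submodule.mkQ_apply, (Submodule.Quotient.mk_eq_zero U).2 x.2, map_zero]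
    rw [this, LinearMap.rTensor_zero, LinearMap.zero_apply]
  -- apply the functional to coassociativity
  let Φ : V ⊗[k] (A ⊗[k] A) →ₗ[k] A ⊗[k] A := (TensorProduct.lid k (A ⊗[k] A)).toLinearMap ∘ₗ φ.rTensor (A ⊗[k] A)
  have hΦr : ∀ y : V ⊗[k] A, Φ ((CoalgebraStruct.comul (R := k) (A := A)).lTensor V y) =
      CoalgebraStruct.comul (R := k) (TensorProduct.lid k A (φ.rTensor A y)) := by
    intro y
    induction y with
    | zero => simp
    | tmul p q => simp [Φ]
    | add p q hp hq => simp only [map_add, hp, hq]
  have hΦl : ∀ y : (V ⊗[k] A) ⊗[k] A, Φ (TensorProduct.assoc k V A A y) =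
      (((TensorProduct.lid k A).toLinearMap ∘ₗ φ.rTensor A)).rTensor A y := by
    intro y
    induction y with
    | zero => simp
    | tmul p q =>
      induction p with
      | zero => simp
      | tmul r s => simp [Φ, TensorProduct.smul_tmul']
      | add r s hr hs => simp only [add_tmul, map_add, hr, hs]
    | add p q hp hq => simp only [map_add, hp, hq]
  have key := congrArg Φ (coassoc_apply (k := k) (A := A) v)
  rw [hΦl, hΦr] at key
  have hcv : HopfRep.Comod.coact (k := k) (A := A) v = z + v ⊗ₜ[k] (1 : A) := (sub_add_cancel _ _).symm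
  have hR : TensorProduct.lid k A (φ.rTensor A (HopfRep.Comod.coact (k := k) (A := A) v)) = a + φ v • (1 : A) := by
    rw [hcv, map_add, map_add, LinearMap.rTensor_tmul, TensorProduct.lid_tmul]
  have hL : (((TensorProduct.lid k A).toLinearMap ∘ₗ φ.rTensor A)).rTensor A
      ((HopfRep.Comod.coact (k := k) (A := A)).rTensor A z) = (1 : A) ⊗ₜ[k] a := by
    obtain ⟨y, hy⟩ := hzU
    show _ = (1 : A) ⊗ₜ[k] TensorProduct.lid k A (φ.rTensor A z)
    rw [← hy]
    clear hy
    induction y with
    | zero => simp
    | add p q hp hq => simp only [map_add, tmul_add, hp, hq]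
    | tmul w q =>
      simp only [LinearMap.rTensor_tmul, LinearMap.comp_apply, LinearEquiv.coe_coe, Submodule.coe_subtype,
        TensorProduct.lid_tmul, hw w w.2]
      rw [TensorProduct.smul_tmul]
  have hprim : Diag.IsPrim (k := k) a := by
    show CoalgebraStruct.comul (R := k) a = a ⊗ₜ[k] (1 : A) + (1 : A) ⊗ₜ[k] a
    rw [hR, map_add, map_smul, Bialgebra.comul_one, hcv, map_add, map_add, hL, LinearMap.rTensor_tmul,
      LinearMap.rTensor_tmul, LinearMap.comp_apply, LinearEquiv.coe_coe, hR, add_tmul] at key
    rw [Algebra.TensorProduct.one_def, TensorProduct.smul_tmul'] at key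
    linear_combination (norm := abel) -key
  refine eq_zero_of_prim_of_lie hprim fun D => ?_
  show LieHopf.dlin D (TensorProduct.lid k A (φ.rTensor A z)) = 0
  rw [← hrc, hz, map_sub, rc_tmul, LieHopf.dlin_one, zero_smul, sub_zero, ← dact_apply, h, map_zero]

/-- vectors killed by the Lie algebra are fixed -/
theorem fixed_of_lie {v : V} {n : ℕ} (hv : v ∈ soc k A V n)
    (h : ∀ D : LieHopf.Lie k A, dact (LieHopf.dlin D) v = 0) : v ∈ HopfRep.fixedPts k A V := by
  rw [← soc_one]
  have : ∀ m, v ∈ soc k A V (m + 1) → v ∈ soc k A V 1 := by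
    intro m
    induction m with
    | zero => exact id
    | succ m ih => exact fun hm => ih (mem_soc_of_lie hm h)
  exact this n (soc_mono n.le_succ hv)

end Comod

/-- iterated derivations -/
def iterD : List (LieHopf.Lie k A) → (A →ₗ[k] A)
  | [] => LinearMap.id
  | D :: L => iterD L ∘ₗ dact (A := A) (V := A) (LieHopf.dlin D)

/-- the iterated derivations separate the coordinate ring of a unipotent group -/
theorem eq_zero_of_iterD (hU : HopfRep.IsUnipotent k A) {a : A}
    (h : ∀ L : List (LieHopf.Lie k A), Bialgebra.counitAlgHom k A (iterD L a) = 0) : a = 0 := by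
  have hex : a ∈ ⨆ i, soc k A A i := by rw [iSup_soc_eq_top hU]; trivial
  obtain ⟨n, hn⟩ := (Submodule.mem_iSup_of_directed _ (soc_mono.directed_le)).1 hex
  induction n generalizing a with
  | zero => exact (Submodule.mem_bot k).1 hn
  | succ n ih =>
    have hfix : a ∈ HopfRep.fixedPts k A A := fixed_of_lie hn fun D => by
      refine ih (fun L => h (D :: L)) ?_ (dlin_dact_mem_soc D hn)
      exact Submodule.mem_iSup_of_mem n (dlin_dact_mem_soc D hn)
    have hΔ : CoalgebraStruct.comul (R := k) a = a ⊗ₜ[k] (1 : A) := hfix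
    have h2 := congrArg (fun z => TensorProduct.lid k A ((CoalgebraStruct.counit (R := k) (A := A)).rTensor A z)) hΔ
    simp only [Coalgebra.rTensor_counit_comul, LinearMap.rTensor_tmul, TensorProduct.lid_tmul, one_smul] at h2
    rw [h2, show CoalgebraStruct.counit (R := k) a = 0 from h [], zero_smul]

section Coeff

variable {V : Type w} [AddCommGroup V] [Module k V] [HopfRep.Comod k A V]

/-- a coefficient of a comodule -/
def coeff (φ : V →ₗ[k] k) : V →ₗ[k] A :=
  (TensorProduct.lid k A).toLinearMap ∘ₗ φ.rTensor A ∘ₗ HopfRep.Comod.coact (k := k) (A := A)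

theorem apply_dact (φ : V →ₗ[k] k) (f : A →ₗ[k] k) (v : V) : φ (dact f v) = f (coeff φ v) := by
  show φ (rc f (HopfRep.Comod.coact (k := k) (A := A) v)) =
    f (TensorProduct.lid k A (φ.rTensor A (HopfRep.Comod.coact (k := k) (A := A) v)))
  generalize HopfRep.Comod.coact (k := k) (A := A) v = y
  induction y with
  | zero => simp
  | tmul p q => simp [mul_comm]
  | add p q hp hq => simp only [map_add, hp, hq]

theorem counit_coeff (φ : V →ₗ[k] k) (v : V) : CoalgebraStruct.counit (R := k) (coeff (A := A) φ v) = φ v := by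
  rw [← apply_dact, dact_counit]

theorem coeff_dact (φ : V →ₗ[k] k) (f : A →ₗ[k] k) (v : V) :
    coeff (A := A) φ (dact f v) = dact (A := A) (V := A) f (coeff φ v) := by
  show TensorProduct.lid k A (φ.rTensor A (HopfRep.Comod.coact (k := k) (A := A) (dact f v))) =
    rc f (CoalgebraStruct.comul (R := k)
      (TensorProduct.lid k A (φ.rTensor A (HopfRep.Comod.coact (k := k) (A := A) v))))
  rw [coact_dact]
  generalize HopfRep.Comod.coact (k := k) (A := A) v = y
  induction y with
  | zero => simp
  | tmul p q => simp
  | add p q hp hq => simp only [map_add, hp, hq]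

/-- iterated infinitesimal actions -/
def iterV : List (LieHopf.Lie k A) → (V →ₗ[k] V)
  | [] => LinearMap.id
  | D :: L => iterV L ∘ₗ dact (LieHopf.dlin D)

theorem counit_iterD_coeff (φ : V →ₗ[k] k) (L : List (LieHopf.Lie k A)) :
    ∀ v, Bialgebra.counitAlgHom k A (iterD L (coeff (A := A) φ v)) = φ (iterV L v) := by
  induction L with
  | nil => exact fun v => counit_coeff φ v
  | cons D L ih =>
    intro v
    show Bialgebra.counitAlgHom k A (iterD L (dact (A := A) (V := A) (LieHopf.dlin D) (coeff φ v))) = _
    rw [← coeff_dact]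
    exact ih _

theorem rid_lie (D : LieHopf.Lie k A) (v : V) :
    TensorProduct.rid k V (LinearMap.lTensor V (D.toLinearMap.restrictScalars k)
      (HopfRep.Comod.coact (k := k) (A := A) v) : V ⊗[k] k) = dact (LieHopf.dlin D) v := rfl

end Coeff

end Sep

end Groth.Agent.Unip34
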